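import Groth.Agent.SerreReg.CM
import Groth.Agent.UFDLib.Regular
import Groth.Agent.RegLoc.Order
import Groth.Agent.Purity.BranchLocus
import Groth.Agent.FibDepth.FibBCDim
import Mathlib

/-!
# Miracle flatness for essentially finite injective local maps of regular local rings
-/

universe u

open IsLocalRing RingTheory.Sequence

namespace Groth.Agent.RegFinite

/-- An injective local map of regular local rings, the target being a local ring of a finite algebra, is flat. -/
theorem flat_of_ess_finite {R S : Type u} [CommRing R] [IsRegularLocalRing R] [CommRing S]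
    [IsRegularLocalRing S] [Algebra R S] [IsLocalHom (algebraMap R S)]
    (hinj : Function.Injective (algebraMap R S)) (G : Finset S)
    (hint : ∀ g ∈ G, IsIntegral R g)
    (hfrac : ∀ s : S, ∃ a ∈ Algebra.adjoin R (G : Set S), ∃ b ∈ Algebra.adjoin R (G : Set S),
      IsUnit b ∧ s * b = a) : Module.Flat R S := by
  classical
  haveI := RegLoc.isDomain (A := R)
  haveI := RegLoc.isDomain (A := S)
  haveI : UniqueFactorizationMonoid R := UFDLib.ufd_of_isRegularLocalRing R
  let T := Algebra.adjoin R (G : Set S)
  haveI : Module.Finite R T :=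
    Module.Finite.iff_fg.mpr (fg_adjoin_of_finite G.finite_toSet fun g hg => hint g hg)
  haveI : Algebra.IsIntegral R T := Algebra.IsIntegral.of_finite R T
  haveI : IsNoetherianRing T := IsNoetherianRing.of_finite R T
  haveI : FaithfulSMul R T := (faithfulSMul_iff_algebraMap_injective R T).mpr fun a b h =>
    hinj (congrArg Subtype.val h)
  let Q : Ideal T := (maximalIdeal S).comap T.val.toRingHom
  haveI : Q.IsPrime := Ideal.comap_isPrime _ _
  letI : Algebra T S := T.val.toRingHom.toAlgebra
  haveI hloc : IsLocalization.AtPrime S Q := by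
    refine (isLocalization_iff Q.primeCompl S).mpr ⟨fun y => ?_, fun s => ?_, fun {x y} h => ⟨1, ?_⟩⟩
    · exact of_not_not fun h => y.2 ((mem_maximalIdeal _).mpr h)
    · obtain ⟨a, ha, b, hb, hu, e⟩ := hfrac s
      exact ⟨(⟨a, ha⟩, ⟨⟨b, hb⟩, fun h => (mem_maximalIdeal _).mp h hu⟩), e⟩
    · simp only [Submonoid.coe_one, one_mul]
      exact Subtype.ext h
  haveI : IsScalarTower R T S := IsScalarTower.of_algebraMap_eq fun _ => rfl
  have hQm : Q.comap (algebraMap R T) = maximalIdeal R := by
    ext a
    exact ⟨fun h => (mem_maximalIdeal _).mpr fun hu => (mem_maximalIdeal _).mp h (hu.map (algebraMap R S)),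
      fun h => map_nonunit (algebraMap R S) a h⟩
  obtain ⟨d, hd⟩ := SerreReg.exists_dim R
  have hdim : ringKrullDim S = d := by
    rw [IsLocalization.AtPrime.ringKrullDim_eq_height Q S, ← hd,
      ← maximalIdeal_height_eq_ringKrullDim (R := R)]
    congr 1
    rw [← hQm]
    exact le_antisymm (Purity.height_le_comap Q) (FibDepth.height_comap_le Q)
  obtain ⟨rs, hlen, hreg, hspan⟩ := SerreReg.exists_regular_rsop d R hd
  obtain ⟨ss, hsslen, hssreg, hssspan⟩ := SerreReg.exists_regular_rsop d S hdim
  have hR : CMSop.HasRegSeq (R := S) d S := hsslen ▸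
    CMSop.hasRegSeq_of_isWeaklyRegular ss S hssreg fun r hr => hssspan ▸ Ideal.subset_span hr
  subst hlen
  let a : Fin rs.length → S := fun i => algebraMap R S rs[i]
  have hrad : CMSop.IsSop a := by
    have hJ : Ideal.span (Set.range a) = (maximalIdeal R).map (algebraMap R S) := by
      rw [← hspan, Ideal.ofList, Ideal.map_span]
      congr 1
      ext s
      constructor
      · rintro ⟨i, rfl⟩; exact ⟨rs[i], List.getElem_mem _, rfl⟩
      · rintro ⟨r, hr, rfl⟩
        obtain ⟨i, hi, rfl⟩ := List.getElem_of_mem hr
        exact ⟨⟨i, hi⟩, rfl⟩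
    show (Ideal.span (Set.range a)).radical = maximalIdeal S
    rw [hJ, Ideal.radical_eq_sInf]
    refine le_antisymm (sInf_le ⟨((local_hom_TFAE (algebraMap R S)).out 0 2).mp ‹IsLocalHom (algebraMap R S)›,
      inferInstance⟩) (le_sInf ?_)
    rintro P ⟨hP, hPp⟩
    haveI := hPp
    refine le_of_eq ?_
    have hPm : maximalIdeal R ≤ (P.comap (algebraMap T S)).comap (algebraMap R T) := fun r hr => by
      rw [Ideal.mem_comap, Ideal.mem_comap, ← IsScalarTower.algebraMap_apply]
      exact hP (Ideal.mem_map_of_mem _ hr)
    haveI : ((P.comap (algebraMap T S)).comap (algebraMap R T)).IsMaximal := by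
      rw [← (maximalIdeal.isMaximal R).eq_of_le (Ideal.IsPrime.ne_top inferInstance) hPm]
      infer_instance
    haveI hmax : (P.comap (algebraMap T S)).IsMaximal :=
      Ideal.isMaximal_of_isIntegral_of_isMaximal_comap (R := R) (P.comap (algebraMap T S)) ‹_›
    have hle : P.comap (algebraMap T S) ≤ Q := Ideal.comap_mono (le_maximalIdeal hPp.ne_top)
    have e := (Ideal.IsMaximal.eq_of_le hmax
      (Ideal.IsPrime.ne_top inferInstance) hle)
    calc maximalIdeal S = ((maximalIdeal S).comap (algebraMap T S)).map (algebraMap T S) :=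
          (IsLocalization.map_comap Q.primeCompl S _).symm
      _ = (P.comap (algebraMap T S)).map (algebraMap T S) := by rw [e]; rfl
      _ = P := IsLocalization.map_comap Q.primeCompl S _
  have hw := SerreReg.isWeaklyRegular_take_of_isSop hrad hR rs.length
  have ha : (List.ofFn a).take rs.length = rs.map (algebraMap R S) := by
    rw [List.take_of_length_le (by simp)]
    refine List.ext_getElem (by simp) fun i h₁ h₂ => ?_
    simp [a]
  rw [ha, isWeaklyRegular_map_algebraMap_iff] at hw
  exact SerreReg.flat_of_regular_rsop rs.length R hd rs rfl hreg hspan S hw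

end Groth.Agent.RegFinite
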